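import Cfsg.Agent.CosetEnum.Lower

/-! Generated coset enumeration certificate: M22 step 3. -/

set_option autoImplicit false
set_option maxRecDepth 100000

namespace CfsgLib.M22Cover.Step3

open CfsgLib.CosetEnum

noncomputable def epFLeaf (c : ℕ) : ℕ :=
  0x2820000900002810000a00002800000900002410000700001c20000700001c00000500001420000500001410000300000c00000300000c200000000000100000000000000000000003f00000

/-- table entries -/
noncomputable def epF (i : ℕ) : ℕ :=
  ((epFLeaf (i >>> 9)) >>> (48 * (i % 512))) % 281474976710656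

noncomputable def nodeFLeaf (c : ℕ) : ℕ :=
  0xa0000900007000050000300000

/-- table entries -/
noncomputable def nodeF (i : ℕ) : ℕ :=
  ((nodeFLeaf (i >>> 10)) >>> (20 * (i % 1024))) % 1048576

noncomputable def TFLeaf (c : ℕ) : ℕ :=
  0x40000500004000050000300005000030000400002000020000100003000000000200001000010000000000

/-- table entries -/
noncomputable def TF (i : ℕ) : ℕ :=
  ((TFLeaf (i >>> 10)) >>> (20 * (i % 1024))) % 1048576

noncomputable def tfFLeaf (c : ℕ) : ℕ :=
  0x1900001600001500001800001300001400001000001200000f00000c00000b00000e00000700000a000008000006000004000002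

/-- table entries -/
noncomputable def tfF (i : ℕ) : ℕ :=
  ((tfFLeaf (i >>> 10)) >>> (24 * (i % 1024))) % 16777216

noncomputable def parFLeaf (c : ℕ) : ℕ :=
  0x100000000c100000080000000410000000200000000

/-- table entries -/
noncomputable def parF (i : ℕ) : ℕ :=
  ((parFLeaf (i >>> 10)) >>> (32 * (i % 1024))) % 4294967296

/-- the words: relators, then generators of the subgroup -/
def words : List (List ℕ) := [[0, 0], [1, 1], [2, 2], [0, 1, 0, 1, 0, 1, 0, 1, 0, 1], [0, 2, 0, 2], [1, 2, 1, 2, 1, 2], [0, 2, 1, 0, 2, 1, 0, 2, 1, 0, 2, 1, 0, 2, 1], [1, 0, 1, 0, 1, 0, 1, 0, 1, 0], [2, 0, 2, 0], [2, 1, 2, 1, 2, 1], [1, 2, 0, 1, 2, 0, 1, 2, 0, 1, 2, 0, 1, 2, 0], [0], [1]]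

/-- the certificate -/
noncomputable def cert : CertData where
  L := 3
  n := 6
  iv := fun x => x
  words := words
  nr := 11
  ep := epF
  node := nodeF
  T := TF
  tf := tfF

/-- parents in the table -/
noncomputable def par : ℕ → ℕ := parF

end CfsgLib.M22Cover.Step3
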