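import Cfsg.Agent.M22Cover.Step3.Data

/-! Generated: checks of facts. -/

set_option autoImplicit false
set_option maxRecDepth 100000

namespace CfsgLib.M22Cover.Step3

open CfsgLib.CosetEnum

theorem facts0 : checkFacts epF (fun x => x) words 11 0 [0x1, 0xc00003, 0xd00003, 0x0, 0x6000020000700000000030000500006, 0x0, 0xa0000600004000070000b00005000050000600008, 0x0, 0xe0000c0000f00003000070000500006, 0x0, 0x0, 0x14000120000e0000a000080000b0000f0001300015000090000a000040000c, 0xe0000c0000a00008000060000400002000070000b0000f0001000013000150001200001000070000b00011] = true := by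
  decide +kernel

theorem factsUpTo13 (h : FactsChecked cert.ep cert.iv cert.words cert.nr 0) :
    FactsChecked cert.ep cert.iv cert.words cert.nr 13 :=
  (FactsChecked.app _ 13 h facts0 rfl)

end CfsgLib.M22Cover.Step3
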